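import Groth.Agent.BlowAlgX.Map
import Groth.Agent.BlowUpLib.Local
import Groth.Agent.KFlatLib.Ring.FourTerm
import Mathlib.RingTheory.Flat.EquationalCriterion
import Mathlib.RingTheory.Flat.Equalizer

/-!
# Affine blow-up algebras along a centre whose thickenings are flat
-/

set_option autoImplicit false
set_option linter.style.haveILetI false

universe u

open TensorProduct

namespace Groth.Agent.RegBlow6

variable (R : Type u) {A : Type u} [CommRing R] [CommRing A] [Algebra R A] (I : Ideal A) {a : A} (ha : a ∈ I)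

/-- `I ^ m` over the base. -/
abbrev powR (m : ℕ) : Submodule R A := (I ^ m).restrictScalars R

/-- The graded piece over the base. -/
abbrev piece (m : ℕ) : Type u := powR R I m ⧸ (powR R I (m + 1)).comap (powR R I m).subtype

theorem flat_piece (hflat : ∀ n : ℕ, Module.Flat R (A ⧸ I ^ (n + 1))) (m : ℕ) :
    Module.Flat R (piece R I m) := by
  haveI := hflat m
  haveI : Module.Flat R (A ⧸ I ^ m) := by
    cases m with
    | zero =>
      haveI : Subsingleton (A ⧸ I ^ 0) := Ideal.Quotient.subsingleton_iff.2 (by rw [pow_zero, Ideal.one_eq_top])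
      infer_instance
    | succ n => exact hflat n
  let q : A →ₗ[R] A ⧸ I ^ (m + 1) := (Ideal.Quotient.mkₐ R (I ^ (m + 1))).toLinearMap
  let f : piece R I m →ₗ[R] A ⧸ I ^ (m + 1) :=
    Submodule.liftQ _ (q.comp (powR R I m).subtype) fun y hy => Ideal.Quotient.eq_zero_iff_mem.2 hy
  let g : A ⧸ I ^ (m + 1) →ₗ[R] A ⧸ I ^ m :=
    (Ideal.Quotient.factorₐ R (Ideal.pow_le_pow_right (Nat.le_succ m))).toLinearMap
  refine KFlatLib.flat_of_flat_quotient (f := f) (g := g) ?_ ?_ ?_
  · refine (injective_iff_map_eq_zero _).2 fun y hy => ?_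
    obtain ⟨y, rfl⟩ := Submodule.Quotient.mk_surjective _ y
    exact (Submodule.Quotient.mk_eq_zero _).2 (Ideal.Quotient.eq_zero_iff_mem.1 hy)
  · intro z
    obtain ⟨z, rfl⟩ := Ideal.Quotient.mk_surjective z
    refine ⟨fun hz => ⟨Submodule.Quotient.mk ⟨z, Ideal.Quotient.eq_zero_iff_mem.1 hz⟩, rfl⟩, ?_⟩
    rintro ⟨y, hy⟩
    obtain ⟨y, rfl⟩ := Submodule.Quotient.mk_surjective _ y
    rw [← hy]
    exact Ideal.Quotient.eq_zero_iff_mem.2 y.2
  · exact Ideal.Quotient.factor_surjective (Ideal.pow_le_pow_right (Nat.le_succ m))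

include ha in
theorem exc_eq_span : I.map (algebraMap A (BlowUp.affineAlgebra A I a)) =
    Ideal.span {algebraMap A (BlowUp.affineAlgebra A I a) a} := by
  refine le_antisymm (Ideal.map_le_iff_le_comap.2 fun x hx => ?_)
    ((Ideal.span_singleton_le_iff_mem _).2 (Ideal.mem_map_of_mem _ ha))
  exact Ideal.mem_span_singleton'.2 ⟨_, BlowUpLib.frac_mul I ⟨x, hx⟩ ⟨a, ha⟩⟩

/-- `y ↦ y / a ^ m`. -/
noncomputable def divPow (m : ℕ) : powR R I m →ₗ[R] BlowUp.affineAlgebra A I a where
  toFun y := ⟨algebraMap A (Localization.Away a) y.1 * IsLocalization.Away.invSelf a ^ m,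
    BlowUpLib.mul_invSelf_pow_mem I ⟨a, ha⟩ m y.1 y.2⟩
  map_add' x y := Subtype.ext (by
    show algebraMap A (Localization.Away a) ((x : A) + y) * _ = _ + _
    rw [map_add, add_mul])
  map_smul' r y := Subtype.ext (by
    show algebraMap A (Localization.Away a) (r • (y : A)) * _ = r • (_ * _)
    rw [Algebra.smul_def, map_mul, Algebra.smul_def, ← mul_assoc, ← IsScalarTower.algebraMap_apply])

theorem divPow_spec (m : ℕ) (y : powR R I m) :
    divPow R I ha m y * algebraMap A (BlowUp.affineAlgebra A I a) (a ^ m) =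
      algebraMap A (BlowUp.affineAlgebra A I a) y.1 := by
  refine Subtype.ext ?_
  show algebraMap A (Localization.Away a) y.1 * IsLocalization.Away.invSelf a ^ m * algebraMap A _ (a ^ m) = _
  rw [map_pow, mul_assoc, ← mul_pow, mul_comm (IsLocalization.Away.invSelf a), IsLocalization.Away.mul_invSelf,
    one_pow, mul_one]
  rfl

variable {I} in
theorem eq_of_mul_pow {q q' : BlowUp.affineAlgebra A I a} {n : ℕ}
    (h : q * algebraMap A _ (a ^ n) = q' * algebraMap A _ (a ^ n)) : q = q' := by
  have h1 := congrArg Subtype.val h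
  have hu : IsUnit (algebraMap A (Localization.Away a) (a ^ n)) := by
    rw [map_pow]
    exact (IsLocalization.Away.algebraMap_isUnit a).pow n
  exact Subtype.ext (hu.mul_left_inj.1 h1)

theorem divPow_mul_pow (m k : ℕ) (y : powR R I m) (hy : a ^ k * y.1 ∈ powR R I (m + k)) :
    divPow R I ha (m + k) ⟨a ^ k * y.1, hy⟩ = divPow R I ha m y := by
  refine eq_of_mul_pow (n := m + k) ?_
  rw [divPow_spec, pow_add, map_mul, map_mul, ← mul_assoc, divPow_spec, mul_comm]

/-- The exceptional divisor of a chart. -/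
abbrev ExcQuot (I : Ideal A) (a : A) : Type u :=
  BlowUp.affineAlgebra A I a ⧸ I.map (algebraMap A (BlowUp.affineAlgebra A I a))

/-- The map of a graded piece. -/
noncomputable def pieceMap (m : ℕ) : piece R I m →ₗ[R] ExcQuot I a :=
  Submodule.liftQ _ ((Ideal.Quotient.mkₐ R _).toLinearMap.comp (divPow R I ha m)) fun y hy => by
    refine Ideal.Quotient.eq_zero_iff_mem.2 ?_
    rw [exc_eq_span I ha, Ideal.mem_span_singleton']
    refine ⟨divPow R I ha (m + 1) ⟨y.1, hy⟩, eq_of_mul_pow (n := m) ?_⟩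
    rw [mul_assoc, ← map_mul, mul_comm a, ← pow_succ, divPow_spec, divPow_spec]

theorem pieceMap_mk (m : ℕ) (y : powR R I m) :
    pieceMap R I ha m (Submodule.Quotient.mk y) = Ideal.Quotient.mk _ (divPow R I ha m y) := rfl

theorem exists_pow_mul_mem {m : ℕ} {y : powR R I m}
    (h : divPow R I ha m y ∈ I.map (algebraMap A (BlowUp.affineAlgebra A I a))) :
    ∃ k, a ^ k * y.1 ∈ I ^ (m + k + 1) := by
  rw [exc_eq_span I ha, Ideal.mem_span_singleton'] at h
  obtain ⟨q, hq⟩ := h
  obtain ⟨n, z, hz, hqz⟩ := BlowAlgX.exists_eq I a ha q.2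
  have h1 : algebraMap A (Localization.Away a) (a ^ n * y.1) = algebraMap A (Localization.Away a) (a ^ (m + 1) * z) := by
    have h2 := congrArg Subtype.val (divPow_spec R I ha m y)
    rw [← hq] at h2
    change (q.1 * algebraMap A _ a) * algebraMap A _ (a ^ m) = algebraMap A _ y.1 at h2
    rw [map_mul, map_mul, ← h2, ← hqz, pow_succ, map_mul]
    ring
  obtain ⟨⟨_, N, rfl⟩, hN⟩ := (IsLocalization.eq_iff_exists (Submonoid.powers a) (Localization.Away a)).1 h1
  refine ⟨N + n, ?_⟩
  have e : a ^ (N + n) * y.1 = a ^ (N + (m + 1)) * z := by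
    have := hN
    simp only at this
    rw [pow_add, mul_assoc, this]
    ring
  rw [e, show m + (N + n) + 1 = (N + (m + 1)) + n by omega, pow_add]
  exact Ideal.mul_mem_mul (Ideal.pow_mem_pow ha _) hz

include ha in
theorem flat_excQuot (hflat : ∀ n : ℕ, Module.Flat R (A ⧸ I ^ (n + 1))) :
    Module.Flat R (ExcQuot I a) := by
  refine Module.Flat.of_forall_isTrivialRelation fun {l} {f} {x} hfx => ?_
  choose q hq using fun i => Ideal.Quotient.mk_surjective (x i)
  choose n z hz hqz using fun i => BlowAlgX.exists_eq I a ha (q i).2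
  let m := Finset.univ.sup n
  have hy : ∀ i, a ^ (m - n i) * z i ∈ powR R I m := fun i => by
    have hle : n i ≤ m := Finset.le_sup (Finset.mem_univ i)
    show a ^ (m - n i) * z i ∈ I ^ m
    rw [← Nat.sub_add_cancel hle, pow_add, Nat.sub_add_cancel hle]
    exact Ideal.mul_mem_mul (Ideal.pow_mem_pow ha _) (hz i)
  have hxy : ∀ i, divPow R I ha m ⟨_, hy i⟩ = q i := fun i => by
    have hle : n i ≤ m := Finset.le_sup (Finset.mem_univ i)
    refine eq_of_mul_pow (n := m) ?_
    rw [divPow_spec]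
    refine Subtype.ext ?_
    show algebraMap A (Localization.Away a) (a ^ (m - n i) * z i) = (q i).1 * algebraMap A _ (a ^ m)
    rw [map_mul, ← hqz i]
    conv_rhs => rw [← Nat.sub_add_cancel hle, pow_add, map_mul]
    ring
  have h0 : divPow R I ha m (∑ i, f i • ⟨_, hy i⟩) ∈ I.map (algebraMap A (BlowUp.affineAlgebra A I a)) := by
    rw [← Ideal.Quotient.eq_zero_iff_mem, ← hfx]
    show (Ideal.Quotient.mkₐ R _).toLinearMap (divPow R I ha m _) = _
    simp only [map_sum, map_smul, hxy]
    exact Finset.sum_congr rfl fun i _ => congrArg (f i • ·) (hq i)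
  obtain ⟨k, hk⟩ := exists_pow_mul_mem R I ha h0
  have hyk : ∀ y : powR R I m, a ^ k * y.1 ∈ powR R I (m + k) := fun y => by
    show a ^ k * y.1 ∈ I ^ (m + k)
    rw [pow_add, mul_comm (I ^ m)]
    exact Ideal.mul_mem_mul (Ideal.pow_mem_pow ha _) y.2
  let w : Fin l → piece R I (m + k) := fun i => Submodule.Quotient.mk ⟨_, hyk ⟨_, hy i⟩⟩
  haveI := flat_piece R I hflat (m + k)
  have hw : ∑ i, f i • w i = 0 := by
    simp only [w, ← Submodule.Quotient.mk_smul]
    show (∑ i, Submodule.mkQ _ (f i • (⟨_, hyk ⟨_, hy i⟩⟩ : powR R I (m + k)))) = 0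
    rw [← map_sum]
    refine (Submodule.Quotient.mk_eq_zero _).2 ?_
    show ((∑ i, f i • (⟨_, hyk ⟨_, hy i⟩⟩ : powR R I (m + k)) : powR R I (m + k)) : A) ∈ I ^ (m + k + 1)
    convert hk using 1
    simp [Finset.mul_sum]
  obtain ⟨κ, c, v, hv, hc⟩ := Module.Flat.isTrivialRelation_of_sum_smul_eq_zero hw
  refine ⟨κ, c, fun j => pieceMap R I ha (m + k) (v j), fun i => ?_, hc⟩
  have h1 := congrArg (pieceMap R I ha (m + k)) (hv i)
  simp only [map_sum, map_smul] at h1
  rw [← h1]
  show x i = Ideal.Quotient.mk _ (divPow R I ha (m + k) _)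
  rw [divPow_mul_pow R I ha m k ⟨_, hy i⟩, hxy, hq]

include ha in
/-- The exceptional equation stays regular after base change. -/
theorem mem_nonZeroDivisors_baseChange (hflat : ∀ n : ℕ, Module.Flat R (A ⧸ I ^ (n + 1)))
    (R' : Type u) [CommRing R'] [Algebra R R'] :
    Algebra.TensorProduct.includeLeftRingHom (algebraMap A (BlowUp.affineAlgebra A I a) a) ∈
      nonZeroDivisors (BlowUp.affineAlgebra A I a ⊗[R] R') := by
  set B := BlowUp.affineAlgebra A I a
  let s := algebraMap A B a
  haveI := flat_excQuot R I ha hflat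
  let g : B →ₗ[R] B := LinearMap.mulLeft R s
  let f : B →ₗ[R] ExcQuot I a := (Ideal.Quotient.mkₐ R _).toLinearMap
  have hg : Function.Injective g := fun x y h => eq_of_mul_pow (n := 1) (by
    rw [pow_one, mul_comm x, mul_comm y]; exact h)
  have hex : Function.Exact g f := fun x => by
    show Ideal.Quotient.mk _ x = 0 ↔ _
    rw [Ideal.Quotient.eq_zero_iff_mem, exc_eq_span I ha, Ideal.mem_span_singleton', Set.mem_range]
    exact ⟨fun ⟨y, hy⟩ => ⟨y, (mul_comm s y).trans hy⟩, fun ⟨y, hy⟩ => ⟨y, (mul_comm y s).trans hy⟩⟩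
  have h1 := LinearMap.lTensor_injective_of_exact_of_flat f Ideal.Quotient.mk_surjective g hg hex R'
  have key : ∀ t : B ⊗[R] R', TensorProduct.comm R B R' (Algebra.TensorProduct.includeLeftRingHom s * t) =
      g.lTensor R' (TensorProduct.comm R B R' t) := fun t => by
    induction t using TensorProduct.induction_on with
    | zero => simp
    | tmul x y => simp [g, Algebra.TensorProduct.tmul_mul_tmul]
    | add x y hx hy => rw [mul_add, map_add, map_add, map_add, hx, hy]
  refine mem_nonZeroDivisors_iff_right.2 fun t ht => ?_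
  apply (TensorProduct.comm R B R').injective
  refine h1 ?_
  rw [← key, map_zero, map_zero, mul_comm, ht, map_zero]

end Groth.Agent.RegBlow6
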