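import Groth.Agent.RegBlow6.Geometry
import Groth.Agent.RegBlow6.FlatCentre
import Groth.Prelude.Def_CInt

/-!
# Blowing up along a centre with flat thickenings commutes with base change
-/

set_option autoImplicit false
set_option linter.style.haveILetI false
set_option backward.isDefEq.respectTransparency false
set_option backward.isDefEq.respectTransparency.types false

universe u

open CategoryTheory CategoryTheory.Limits AlgebraicGeometry TopologicalSpace TensorProduct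

namespace Groth.Agent.RegBlow6

open BlowUpLib

variable {X X' S : Scheme.{u}}

theorem exists_chart {𝓘 : X.IdealSheafData} {b : X' ⟶ X} (hb : BlowUp.IsBlowUp b 𝓘) (U : X.affineOpens) (p : X')
    (hp : b p ∈ U.1) :
    ∃ (a : Γ(X, U.1)) (_ : a ∈ 𝓘.ideal U)
      (j : Spec (CommRingCat.of (BlowUp.affineAlgebra Γ(X, U.1) (𝓘.ideal U) a)) ⟶ X'),
      IsOpenImmersion j ∧ p ∈ Set.range j ∧
      j ≫ b = Spec.map (CommRingCat.ofHom (algebraMap Γ(X, U.1) (BlowUp.affineAlgebra Γ(X, U.1) (𝓘.ideal U) a))) ≫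
        U.2.fromSpec := by
  let q := U.2.fromSpec
  have hbU := isBlowUp_of_isPullback (IsPullback.of_hasPullback b q).flip hb
  rw [comap_fromSpec 𝓘 U] at hbU
  obtain ⟨e, he⟩ := exists_iso (isBlowUp_local (𝓘.ideal U)) hbU
  obtain ⟨w, hw⟩ : p ∈ Set.range (pullback.fst b q) := by
    rw [Scheme.Pullback.range_fst, Set.mem_preimage, U.2.range_fromSpec]
    exact hp
  obtain ⟨a, v, hv⟩ := chart_covers (𝓘.ideal U) (e.inv w)
  refine ⟨a.1, a.2, chart (𝓘.ideal U) a ≫ e.hom ≫ pullback.fst b q, inferInstance, ⟨v, ?_⟩, ?_⟩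
  · show pullback.fst b q (e.hom (chart (𝓘.ideal U) a v)) = _
    have h1 : e.hom (e.inv w) = w := by rw [← Scheme.Hom.comp_apply, e.inv_hom_id]; rfl
    rw [hv, h1, hw]
  · simp only [Category.assoc, pullback.condition]
    rw [reassoc_of% he, chart_toBase_assoc]

variable (g : X ⟶ S) {𝓘 : X.IdealSheafData}

theorem flat_thickening (hflat : ∀ n : ℕ, Flat ((𝓘 ^ (n + 1)).subschemeι ≫ g)) (V : S.affineOpens) (U : X.affineOpens)
    (e : U.1 ≤ g ⁻¹ᵁ V.1) (n : ℕ) :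
    letI := (g.appLE V.1 U.1 e).hom.toAlgebra
    Module.Flat Γ(S, V.1) (Γ(X, U.1) ⧸ 𝓘.ideal U ^ (n + 1)) := by
  letI := (g.appLE V.1 U.1 e).hom.toAlgebra
  let A := Γ(X, U.1)
  let K : Ideal A := 𝓘.ideal U ^ (n + 1)
  let ι : Spec (CommRingCat.of (A ⧸ K)) ⟶ Spec Γ(X, U.1) := Spec.map (CommRingCat.ofHom (Ideal.Quotient.mk K))
  haveI : IsClosedImmersion ι := IsClosedImmersion.spec_of_surjective _ Ideal.Quotient.mk_surjective
  obtain ⟨ψ, hψ, hψo, -⟩ := openPiece ι (𝓘 ^ (n + 1)).subschemeι U.2.fromSpec (by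
    rw [Scheme.IdealSheafData.ker_subschemeι, ker_specMk, comap_fromSpec, Scheme.IdealSheafData.ideal_pow]
    rfl)
  let φ : Γ(S, V.1) ⟶ CommRingCat.of (A ⧸ K) := g.appLE V.1 U.1 e ≫ CommRingCat.ofHom (Ideal.Quotient.mk K)
  have hfac : ψ ≫ (𝓘 ^ (n + 1)).subschemeι ≫ g = Spec.map φ ≫ V.2.fromSpec := by
    rw [reassoc_of% hψ, ← IsAffineOpen.SpecMap_appLE_fromSpec g V.2 U.2 e, Spec.map_comp, Category.assoc]
  haveI := hflat n
  haveI : Flat (Spec.map φ ≫ V.2.fromSpec) := by rw [← hfac]; infer_instance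
  have h1 : Flat (Spec.map φ) := MorphismProperty.of_postcomp (W := @Flat) (W' := @IsOpenImmersion)
    (Spec.map φ) V.2.fromSpec inferInstance inferInstance
  rw [HasRingHomProperty.Spec_iff (P := @Flat)] at h1
  exact h1

theorem flat_exceptional (hflat : ∀ n : ℕ, Flat ((𝓘 ^ (n + 1)).subschemeι ≫ g)) {b : X' ⟶ X}
    (hb : BlowUp.IsBlowUp b 𝓘) : Flat ((BlowUp.exceptional b 𝓘).subschemeι ≫ b ≫ g) := by
  set f := (BlowUp.exceptional b 𝓘).subschemeι ≫ b ≫ g
  suffices hloc : ∀ y : (BlowUp.exceptional b 𝓘).subscheme, ∃ (Z : Scheme.{u}) (ψ : Z ⟶ _),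
      IsOpenImmersion ψ ∧ y ∈ Set.range ψ ∧ Flat (ψ ≫ f) by
    choose Z ψ hψ hy hs using hloc
    refine IsZariskiLocalAtSource.of_iSup_eq_top (P := @Flat) (fun y => (ψ y).opensRange)
      (top_le_iff.1 fun y _ => Opens.mem_iSup.2 ⟨y, hy y⟩) fun y => ?_
    rw [← Scheme.Hom.isoOpensRange_inv_comp (ψ y), Category.assoc]
    haveI := hs y
    infer_instance
  intro y
  let p := (BlowUp.exceptional b 𝓘).subschemeι y
  obtain ⟨_, ⟨V, hV, rfl⟩, hpV, -⟩ := S.isBasis_affineOpens.exists_subset_of_mem_open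
    (Set.mem_univ (g (b p))) isOpen_univ
  obtain ⟨_, ⟨U, hU, rfl⟩, hpU, e⟩ := X.isBasis_affineOpens.exists_subset_of_mem_open
    (show b p ∈ (g ⁻¹ᵁ V : Set X) from hpV) (g ⁻¹ᵁ V).2
  obtain ⟨a, ha, j, hj, ⟨v, hv⟩, hjb⟩ := exists_chart hb ⟨U, hU⟩ p hpU
  letI := (g.appLE V U e).hom.toAlgebra
  let B := BlowUp.affineAlgebra Γ(X, U) (𝓘.ideal ⟨U, hU⟩) a
  let J : Ideal B := (𝓘.ideal ⟨U, hU⟩).map (algebraMap Γ(X, U) B)
  let ιZ : Spec (CommRingCat.of (B ⧸ J)) ⟶ Spec (CommRingCat.of B) :=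
    Spec.map (CommRingCat.ofHom (Ideal.Quotient.mk J))
  haveI : IsClosedImmersion ιZ := IsClosedImmersion.spec_of_surjective _ Ideal.Quotient.mk_surjective
  have hker : ιZ.ker = (BlowUp.exceptional b 𝓘).subschemeι.ker.comap j := by
    rw [Scheme.IdealSheafData.ker_subschemeι, ker_specMk, ← Scheme.IdealSheafData.comap_comp, hjb,
      Scheme.IdealSheafData.comap_comp, comap_fromSpec, comap_centre_specMap]
  obtain ⟨ψ, hψ, hψo, hψr⟩ := openPiece ιZ _ j hker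
  refine ⟨_, ψ, hψo, hψr y v hv, ?_⟩
  let φ : Γ(S, V) ⟶ CommRingCat.of (B ⧸ J) := CommRingCat.ofHom (algebraMap Γ(S, V) (B ⧸ J))
  have hfac : ψ ≫ f = Spec.map φ ≫ hV.fromSpec := by
    simp only [f]
    rw [reassoc_of% hψ, reassoc_of% hjb, ← IsAffineOpen.SpecMap_appLE_fromSpec g hV hU e]
    simp only [ιZ, ← Category.assoc, ← Spec.map_comp]
    rfl
  rw [hfac]
  haveI : Flat (Spec.map φ) := by
    rw [HasRingHomProperty.Spec_iff (P := @Flat)]
    exact RingHom.flat_algebraMap_iff.2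
      (flat_excQuot Γ(S, V) (𝓘.ideal ⟨U, hU⟩) ha fun n => flat_thickening g hflat ⟨V, hV⟩ ⟨U, hU⟩ e n)
  infer_instance

theorem exists_affine_of_principal {Y : Scheme.{u}} {C : Type u} [CommRing C] (D : Y.IdealSheafData)
    (K : Spec (CommRingCat.of C) ⟶ Y) [IsOpenImmersion K] {t : C} (ht : t ∈ nonZeroDivisors C)
    (hK : D.comap K = centre (Ideal.span {t})) (z : Spec (CommRingCat.of C)) :
    ∃ U₀ : Y.affineOpens, K z ∈ U₀.1 ∧ ∃ f : Γ(Y, U₀.1), f ∈ nonZeroDivisors Γ(Y, U₀.1) ∧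
      D.ideal U₀ = Ideal.span {f} := by
  let U₀ : Y.affineOpens := ⟨K ''ᵁ ⊤, (isAffineOpen_top _).image_of_isOpenImmersion K⟩
  let e : C ≃+* Γ(Y, U₀.1) :=
    ((Scheme.ΓSpecIso (CommRingCat.of C)).symm ≪≫ (K.appIso ⊤).symm).commRingCatIsoToRingEquiv
  refine ⟨U₀, ⟨z, trivial, rfl⟩, e t, (MulEquivClass.map_nonZeroDivisors e).le ⟨t, ht, rfl⟩, ?_⟩
  have h3 := Scheme.IdealSheafData.ideal_comap_of_isOpenImmersion D K ⟨⊤, isAffineOpen_top _⟩
  rw [hK, centre_top, Ideal.map_span, Set.image_singleton] at h3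
  have h4 := congrArg (Ideal.map (K.appIso ⊤).inv.hom) h3
  rw [Ideal.map_span, Set.image_singleton] at h4
  have hsurj : Function.Surjective (K.appIso ⊤).inv.hom := (K.appIso ⊤).symm.commRingCatIsoToRingEquiv.surjective
  exact ((h4.trans (Ideal.map_comap_of_surjective _ hsurj (D.ideal U₀)))).symm

theorem baseChangeOver_fst {S₁ : Scheme.{u}} (b : X' ⟶ X) (s : S₁ ⟶ S) :
    CInt.baseChangeOver b g s ≫ pullback.fst g s = pullback.fst (b ≫ g) s ≫ b := pullback.lift_fst ..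

theorem baseChangeOver_snd {S₁ : Scheme.{u}} (b : X' ⟶ X) (s : S₁ ⟶ S) :
    CInt.baseChangeOver b g s ≫ pullback.snd g s = pullback.snd (b ≫ g) s :=
  (pullback.lift_snd ..).trans (Category.comp_id _)

theorem isBlowUp_baseChange (hflat : ∀ n : ℕ, Flat ((𝓘 ^ (n + 1)).subschemeι ≫ g)) {b : X' ⟶ X}
    (hb : BlowUp.IsBlowUp b 𝓘) {S₁ : Scheme.{u}} (s : S₁ ⟶ S) :
    BlowUp.IsBlowUp (CInt.baseChangeOver b g s) (𝓘.comap (pullback.fst g s)) := by
  refine ⟨fun p => ?_, fun Z gZ hg => ?_⟩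
  · rw [← Scheme.IdealSheafData.comap_comp, baseChangeOver_fst, Scheme.IdealSheafData.comap_comp]
    let p' := pullback.fst (b ≫ g) s p
    obtain ⟨_, ⟨V, hV, rfl⟩, hpV, -⟩ := S.isBasis_affineOpens.exists_subset_of_mem_open
      (Set.mem_univ (g (b p'))) isOpen_univ
    obtain ⟨_, ⟨U, hU, rfl⟩, hpU, e⟩ := X.isBasis_affineOpens.exists_subset_of_mem_open
      (show b p' ∈ (g ⁻¹ᵁ V : Set X) from hpV) (g ⁻¹ᵁ V).2
    have hsV : s (pullback.snd (b ≫ g) s p) ∈ V := by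
      rw [← Scheme.Hom.comp_apply, ← pullback.condition]
      exact hpV
    obtain ⟨_, ⟨V', hV', rfl⟩, hpV', e'⟩ := S₁.isBasis_affineOpens.exists_subset_of_mem_open
      (show pullback.snd (b ≫ g) s p ∈ (s ⁻¹ᵁ V : Set S₁) from hsV) (s ⁻¹ᵁ V).2
    obtain ⟨a, ha, j, hj, hpj, hjb⟩ := exists_chart hb ⟨U, hU⟩ p' hpU
    letI := (g.appLE V U e).hom.toAlgebra
    letI := (s.appLE V V' e').hom.toAlgebra
    let B := BlowUp.affineAlgebra Γ(X, U) (𝓘.ideal ⟨U, hU⟩) a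
    have h1 : Spec.map (CommRingCat.ofHom (algebraMap Γ(S, V) B)) ≫ hV.fromSpec = j ≫ b ≫ g := by
      rw [reassoc_of% hjb, ← IsAffineOpen.SpecMap_appLE_fromSpec g hV hU e]
      simp only [← Category.assoc, ← Spec.map_comp]
      rfl
    have h2 : Spec.map (CommRingCat.ofHom (algebraMap Γ(S, V) Γ(S₁, V'))) ≫ hV.fromSpec = hV'.fromSpec ≫ s :=
      IsAffineOpen.SpecMap_appLE_fromSpec s hV hV' e'
    let Φ := pullback.map (Spec.map (CommRingCat.ofHom (algebraMap Γ(S, V) B)))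
      (Spec.map (CommRingCat.ofHom (algebraMap Γ(S, V) Γ(S₁, V')))) (b ≫ g) s j hV'.fromSpec hV.fromSpec h1 h2
    let K : Spec (CommRingCat.of (B ⊗[Γ(S, V)] Γ(S₁, V'))) ⟶ pullback (b ≫ g) s :=
      (pullbackSpecIso Γ(S, V) B Γ(S₁, V')).inv ≫ Φ
    haveI : IsOpenImmersion Φ := inferInstance
    haveI : IsOpenImmersion K := inferInstance
    let t : B ⊗[Γ(S, V)] Γ(S₁, V') := Algebra.TensorProduct.includeLeftRingHom (algebraMap Γ(X, U) B a)
    have hK : ((𝓘.comap b).comap (pullback.fst (b ≫ g) s)).comap K = centre (Ideal.span {t}) := by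
      rw [← Scheme.IdealSheafData.comap_comp, ← Scheme.IdealSheafData.comap_comp]
      have : K ≫ pullback.fst (b ≫ g) s ≫ b = Spec.map (CommRingCat.ofHom
          ((Algebra.TensorProduct.includeLeftRingHom : B →+* B ⊗[Γ(S, V)] Γ(S₁, V')).comp (algebraMap Γ(X, U) B))) ≫
          hU.fromSpec := by
        simp only [K, Φ, Category.assoc, pullback.lift_fst_assoc, hjb, pullbackSpecIso_inv_fst_assoc]
        rw [CommRingCat.ofHom_comp, Spec.map_comp, Category.assoc]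
      rw [Category.assoc, this, Scheme.IdealSheafData.comap_comp, comap_fromSpec 𝓘 ⟨U, hU⟩, comap_centre_specMap, ← Ideal.map_map,
        exc_eq_span (𝓘.ideal ⟨U, hU⟩) ha, Ideal.map_span, Set.image_singleton]
    have ht : t ∈ nonZeroDivisors (B ⊗[Γ(S, V)] Γ(S₁, V')) :=
      mem_nonZeroDivisors_baseChange Γ(S, V) (𝓘.ideal ⟨U, hU⟩) ha
        (fun n => flat_thickening g hflat ⟨V, hV⟩ ⟨U, hU⟩ e n) Γ(S₁, V')
    have hpK : p ∈ Set.range K := by
      have hr : p ∈ Set.range Φ := by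
        rw [Scheme.Pullback.range_map]
        refine ⟨hpj, ?_⟩
        show _ ∈ Set.range (IsAffineOpen.fromSpec (show IsAffineOpen V' from hV'))
        rw [IsAffineOpen.range_fromSpec]
        exact hpV'
      obtain ⟨z, hz⟩ := hr
      refine ⟨(pullbackSpecIso Γ(S, V) B Γ(S₁, V')).hom z, ?_⟩
      simp only [K, ← Scheme.Hom.comp_apply, Iso.hom_inv_id_assoc, hz]
    obtain ⟨z, rfl⟩ := hpK
    exact exists_affine_of_principal _ K ht hK z
  · rw [← Scheme.IdealSheafData.comap_comp] at hg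
    obtain ⟨h, hh, hu⟩ := hb.2 Z (gZ ≫ pullback.fst g s) hg
    refine ⟨pullback.lift h (gZ ≫ pullback.snd g s)
      (by rw [reassoc_of% hh, Category.assoc, pullback.condition]), pullback.hom_ext ?_ ?_, fun h' hh' => ?_⟩
    · rw [Category.assoc, baseChangeOver_fst, pullback.lift_fst_assoc, hh]
    · rw [Category.assoc, baseChangeOver_snd, pullback.lift_snd]
    · refine pullback.hom_ext ?_ ?_
      · rw [pullback.lift_fst]
        refine hu _ ?_
        show (h' ≫ pullback.fst (b ≫ g) s) ≫ b = gZ ≫ pullback.fst g s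
        rw [Category.assoc, ← baseChangeOver_fst, ← hh', Category.assoc]
      · rw [pullback.lift_snd, ← hh', Category.assoc, baseChangeOver_snd]

end Groth.Agent.RegBlow6
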