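import Groth.Agent.BlowUpLib.Local
import Groth.Agent.LinType.Basic
import Groth.Prelude.Def_CAlgX
import Mathlib.RingTheory.RingHom.Smooth

/-!
# The exceptional divisor in the affine blow-up algebra of a quasi-regular sequence
-/

set_option autoImplicit false
set_option backward.isDefEq.respectTransparency false
set_option backward.isDefEq.respectTransparency.types false

universe u

open MvPolynomial

namespace Groth.Agent.RegBlow6

variable {A : Type u} [CommRing A] {n : ℕ} (a : Fin n → A)

/-- The centre. -/
abbrev cI : Ideal A := Ideal.span (Set.range a)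

theorem mem_cI (j : Fin n) : a j ∈ cI a := Ideal.subset_span ⟨j, rfl⟩

variable (k : Fin n)

/-- The chart. -/
noncomputable abbrev chartAlg : Subalgebra A (Localization.Away (a k)) := BlowUp.affineAlgebra A (cI a) (a k)

/-- `a j / a k`. -/
noncomputable def coord (j : {j // j ≠ k}) : chartAlg a k :=
  BlowUpLib.frac (cI a) ⟨a j.1, mem_cI a j.1⟩ ⟨a k, mem_cI a k⟩

theorem coord_mul (j : {j // j ≠ k}) :
    coord a k j * algebraMap A (chartAlg a k) (a k) = algebraMap A (chartAlg a k) (a j.1) :=
  BlowUpLib.frac_mul (cI a) ⟨a j.1, mem_cI a j.1⟩ ⟨a k, mem_cI a k⟩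

/-- The presentation of the chart. -/
noncomputable def pres : MvPolynomial {j // j ≠ k} A →ₐ[A] chartAlg a k := aeval (coord a k)

theorem mk'_self : IsLocalization.mk' (Localization.Away (a k)) (a k) ⟨a k, Submonoid.mem_powers _⟩ = 1 :=
  IsLocalization.mk'_self _ _

theorem pres_surjective : Function.Surjective (pres a k) := by
  intro z
  have key : BlowUp.affineAlgebra A (cI a) (a k) ≤ (((chartAlg a k).val).comp (pres a k)).range := by
    refine Algebra.adjoin_le ?_
    rintro _ ⟨x, hx, rfl⟩
    obtain ⟨c, rfl⟩ := (Submodule.mem_span_range_iff_exists_fun A).1 hx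
    have h1 : IsLocalization.mk' (Localization.Away (a k)) (∑ j, c j • a j) ⟨a k, Submonoid.mem_powers _⟩ =
        ∑ j, algebraMap A _ (c j) * IsLocalization.mk' (Localization.Away (a k)) (a j) ⟨a k, Submonoid.mem_powers _⟩ := by
      rw [IsLocalization.mk'_eq_iff_eq_mul, map_sum, Finset.sum_mul]
      refine Finset.sum_congr rfl fun j _ => ?_
      rw [smul_eq_mul, map_mul, mul_assoc, IsLocalization.mk'_spec]
    rw [SetLike.mem_coe, h1]
    refine sum_mem fun j _ => mul_mem (Subalgebra.algebraMap_mem _ _) ?_
    by_cases hj : j = k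
    · subst hj
      rw [mk'_self]
      exact one_mem _
    · exact ⟨X ⟨j, hj⟩, by simp [pres, coord, BlowUpLib.frac]⟩
  obtain ⟨f, hf⟩ := key z.2
  exact ⟨f, Subtype.ext hf⟩

/-- The exceptional ideal of the chart. -/
noncomputable abbrev exc : Ideal (chartAlg a k) := (cI a).map (algebraMap A (chartAlg a k))

theorem exc_eq : exc a k = Ideal.span {algebraMap A (chartAlg a k) (a k)} := by
  refine le_antisymm ?_ ((Ideal.span_singleton_le_iff_mem _).2 (Ideal.mem_map_of_mem _ (mem_cI a k)))
  rw [exc, cI, Ideal.map_span, Ideal.span_le]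
  rintro _ ⟨_, ⟨j, rfl⟩, rfl⟩
  by_cases hj : j = k
  · subst hj
    exact Ideal.mem_span_singleton_self _
  · exact Ideal.mem_span_singleton'.2 ⟨_, coord_mul a k ⟨j, hj⟩⟩

variable {a k}

theorem coeff_mem_of_pres_eq_zero (hq : CAlgX.IsQuasiRegular a) {f : MvPolynomial {j // j ≠ k} A}
    (hf : pres a k f = 0) (e : {j // j ≠ k} →₀ ℕ) : f.coeff e ∈ cI a := by
  classical
  set L := Localization.Away (a k)
  set s := algebraMap A L (a k)
  let t : {j // j ≠ k} → L := fun j => (coord a k j : L)
  have ht : ∀ j, s * t j = algebraMap A L (a j.1) := fun j => by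
    rw [mul_comm]
    exact congrArg Subtype.val (coord_mul a k j)
  have h0 : aeval t f = 0 := by
    have := congrArg (chartAlg a k).val hf
    rw [map_zero] at this
    exact (MvPolynomial.comp_aeval_apply (f := coord a k) (chartAlg a k).val f).symm.trans this
  let d := f.totalDegree
  let ext : ℕ → ({j // j ≠ k} →₀ ℕ) → (Fin n →₀ ℕ) := fun N e =>
    e.mapDomain Subtype.val + Finsupp.single k (N + (d - e.degree))
  have hval : ∀ N, ∀ e : {j // j ≠ k} →₀ ℕ, e ∈ f.support →
      algebraMap A L ((ext N e).prod fun j m => a j ^ m) = s ^ (N + d) * e.prod fun j m => t j ^ m := by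
    intro N e he
    have hle : e.degree ≤ d := le_totalDegree he
    rw [Finsupp.prod_add_index' (fun _ => pow_zero _) (fun _ _ _ => pow_add _ _ _),
      Finsupp.prod_mapDomain_index_inj Subtype.val_injective, Finsupp.prod_single_index (h := fun j m => a j ^ m) (pow_zero (a k)),
      map_mul, map_pow, map_finsuppProd]
    simp only [map_pow, ← ht, mul_pow]
    rw [Finsupp.prod, Finset.prod_mul_distrib, Finset.prod_pow_eq_pow_sum, Finsupp.prod]
    rw [show N + d = (∑ j ∈ e.support, e j) + (N + (d - e.degree)) by rw [← Finsupp.degree_apply]; omega, pow_add]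
    ring
  let P : ℕ → MvPolynomial (Fin n) A := fun N => ∑ e ∈ f.support, monomial (ext N e) (f.coeff e)
  have hP : ∀ N, algebraMap A L (eval a (P N)) = 0 := fun N => by
    simp only [P, map_sum, eval_monomial, map_mul]
    rw [Finset.sum_congr rfl fun e he => by rw [hval N e he, mul_left_comm]]
    rw [← Finset.mul_sum]
    have : ∑ e ∈ f.support, algebraMap A L (f.coeff e) * (e.prod fun j m => t j ^ m) = aeval t f := by
      conv_rhs => rw [f.as_sum, map_sum]
      simp only [aeval_monomial]
    rw [this, h0, mul_zero]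
  obtain ⟨⟨_, N, rfl⟩, hN⟩ := (IsLocalization.map_eq_zero_iff (Submonoid.powers (a k)) L _).mp (hP 0)
  have hN' : eval a (P N) = 0 := by
    rw [← hN]
    simp only [P, map_sum, Finset.mul_sum, eval_monomial]
    refine Finset.sum_congr rfl fun e _ => ?_
    simp only [ext]
    rw [Finsupp.prod_add_index' (fun _ => pow_zero _) (fun _ _ _ => pow_add _ _ _),
      Finsupp.prod_add_index' (fun _ => pow_zero _) (fun _ _ _ => pow_add _ _ _),
      Finsupp.prod_single_index (h := fun j m => a j ^ m) (pow_zero (a k)),
      Finsupp.prod_single_index (h := fun j m => a j ^ m) (pow_zero (a k)), zero_add, pow_add]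
    ring
  have hdeg : ∀ e ∈ f.support, (ext N e).degree = N + d := fun e he => by
    have hle : e.degree ≤ d := le_totalDegree he
    simp only [ext, map_add, Finsupp.degree_single, Finsupp.degree_mapDomain]
    omega
  have hhom : (P N).IsHomogeneous (N + d) :=
    IsHomogeneous.sum _ _ _ fun e he => isHomogeneous_monomial _ (hdeg e he)
  have hc := hq (N + d) (P N) hhom (by rw [hN']; exact zero_mem _) (ext N e)
  by_cases he : e ∈ f.support
  · have hinj : ∀ e' : {j // j ≠ k} →₀ ℕ, ext N e' = ext N e → e' = e := fun e' h => by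
      ext j
      have := DFunLike.congr_fun h j.1
      simpa [ext, Finsupp.mapDomain_apply Subtype.val_injective, Finsupp.single_eq_of_ne, j.2, Ne.symm j.2] using this
    simp only [P, coeff_sum, coeff_monomial] at hc
    rw [Finset.sum_eq_single_of_mem e he fun b _ hb => if_neg fun h => hb (hinj b h), if_pos rfl] at hc
    exact hc
  · rw [MvPolynomial.notMem_support_iff.1 he]
    exact zero_mem _

variable (a k) in
/-- The structure map of the exceptional divisor of the chart. -/
noncomputable abbrev excHom : A ⧸ cI a →+* chartAlg a k ⧸ exc a k :=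
  Ideal.quotientMap (exc a k) (algebraMap A (chartAlg a k)) Ideal.le_comap_map

theorem smooth_excHom (hq : CAlgX.IsQuasiRegular a) :
    RingHom.Smooth (R := A ⧸ cI a) (S := chartAlg a k ⧸ exc a k) (excHom a k) := by
  classical
  let ψ : MvPolynomial {j // j ≠ k} (A ⧸ cI a) →+* chartAlg a k ⧸ exc a k :=
    eval₂Hom (excHom a k) fun j => Ideal.Quotient.mk _ (coord a k j)
  have hmk : ψ.comp (MvPolynomial.map (Ideal.Quotient.mk (cI a))) =
      (Ideal.Quotient.mk (exc a k)).comp (pres a k).toRingHom := by
    refine MvPolynomial.ringHom_ext (fun r => ?_) fun j => ?_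
    · simp [ψ, pres]
    · simp [ψ, pres]
  have hbij : Function.Bijective ψ := by
    refine ⟨(injective_iff_map_eq_zero _).2 fun g hg => ?_, fun z => ?_⟩
    · obtain ⟨f, rfl⟩ := MvPolynomial.map_surjective _ Ideal.Quotient.mk_surjective g
      have h1 : Ideal.Quotient.mk (exc a k) (pres a k f) = 0 := (RingHom.congr_fun hmk f).symm.trans hg
      rw [Ideal.Quotient.eq_zero_iff_mem, exc_eq, Ideal.mem_span_singleton'] at h1
      obtain ⟨q, hqe⟩ := h1
      obtain ⟨g', rfl⟩ := pres_surjective a k q
      have h2 : pres a k (f - g' * C (a k)) = 0 := by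
        rw [map_sub, map_mul, ← hqe, pres, aeval_C, sub_self]
      ext e
      rw [coeff_map, coeff_zero, Ideal.Quotient.eq_zero_iff_mem]
      have h3 := coeff_mem_of_pres_eq_zero hq h2 e
      rw [coeff_sub, mul_comm g', coeff_C_mul] at h3
      simpa using add_mem h3 (Ideal.mul_mem_right (g'.coeff e) _ (mem_cI a k))
    · obtain ⟨z, rfl⟩ := Ideal.Quotient.mk_surjective z
      obtain ⟨f, rfl⟩ := pres_surjective a k z
      exact ⟨MvPolynomial.map _ f, RingHom.congr_fun hmk f⟩
  have hC : ψ.comp MvPolynomial.C = excHom a k := eval₂Hom_comp_C _ _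
  rw [← hC]
  refine RingHom.Smooth.comp ?_ (RingHom.Smooth.of_bijective hbij)
  rw [← MvPolynomial.algebraMap_eq, RingHom.smooth_algebraMap]
  exact { }

end Groth.Agent.RegBlow6
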