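import Groth.Agent.BlowUpLib.Glue
import Groth.Agent.RegBlow6.Algebra
import Groth.Agent.FComplLib.Spf
import Groth.Agent.S5802
import Groth.Prelude.Def_Mor2

/-!
# The exceptional divisor of a blowing up with regular centre is smooth over the centre
-/

set_option autoImplicit false
set_option backward.isDefEq.respectTransparency false
set_option backward.isDefEq.respectTransparency.types false

universe u

open CategoryTheory CategoryTheory.Limits AlgebraicGeometry TopologicalSpace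

namespace Groth.Agent.RegBlow6

open BlowUpLib

variable {A : Type u} [CommRing A]

theorem ker_specMk (I : Ideal A) :
    (Spec.map (CommRingCat.ofHom (Ideal.Quotient.mk I))).ker = centre I := by
  refine Scheme.IdealSheafData.ext_of_isAffine ?_
  rw [centre_top, FComplLib.ker_specMap_ideal _ Ideal.Quotient.mk_surjective, Ideal.mk_ker]

theorem comap_centre_specMap {B : Type u} [CommRing B] (φ : A →+* B) (I : Ideal A) :
    (centre I).comap (Spec.map (CommRingCat.ofHom φ)) = centre (I.map φ) := by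
  refine Scheme.IdealSheafData.ext_of_isAffine ?_
  rw [ideal_comap_centre, centre_top, Ideal.map_map]
  congr 1
  show strHom (Spec.map (CommRingCat.ofHom φ)) ⊤ = _
  rw [strHom, Scheme.Hom.appLE]
  refine RingHom.ext fun r => ?_
  have h := congrArg (fun g => g.hom r) (Scheme.ΓSpecIso_inv_naturality (CommRingCat.ofHom φ))
  simp only [CommRingCat.hom_comp, RingHom.comp_apply, CommRingCat.hom_ofHom] at h
  simp only [CommRingCat.hom_comp, RingHom.comp_apply]
  rw [h]
  erw [(Spec (CommRingCat.of B)).presheaf.map_id]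
  rfl

variable {n : ℕ} (a : Fin n → A)

theorem gen_linear_mem (I : Ideal A) (P : Ideal (reesAlgebra I)) (a : Fin n → A) (hI : I = Ideal.span (Set.range a))
    (h : ∀ k, ∃ hk : a k ∈ I, gen I ⟨a k, hk⟩ ∈ P) (x : I) : gen I x ∈ P := by
  obtain ⟨x, hx⟩ := x
  have hx' : x ∈ Submodule.span A (Set.range a) := by
    subst hI
    exact hx
  obtain ⟨c, rfl⟩ := (Submodule.mem_span_range_iff_exists_fun A).1 hx'
  have : gen I ⟨∑ j, c j • a j, hx⟩ = ∑ j, algebraMap A (reesAlgebra I) (c j) * gen I ⟨a j, (h j).1⟩ := by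
    refine Subtype.ext ?_
    simp [gen, smul_eq_mul, ← Polynomial.C_mul_X_pow_eq_monomial, Finset.sum_mul, mul_assoc]
  rw [this]
  exact Ideal.sum_mem _ fun j _ => Ideal.mul_mem_left _ _ (h j).2

theorem chart_covers_gens (x : localBlowUp (cI a)) :
    ∃ k, x ∈ (chart (cI a) ⟨a k, mem_cI a k⟩).opensRange := by
  by_contra! h
  obtain ⟨y, hy⟩ := chart_covers (cI a) x
  rw [opensRange_chart] at hy
  refine hy (gen_linear_mem (cI a) _ a rfl (fun k => ⟨mem_cI a k, ?_⟩) y)
  have := h k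
  rw [opensRange_chart] at this
  exact not_not.1 this

variable {X X' Y : Scheme.{u}}

/-- The lift into a closed subscheme of the pullback along an open immersion. -/
theorem openPiece {Z Z' : Scheme.{u}} (ι : Z ⟶ Z') [IsClosedImmersion ι] (i : Y ⟶ X) [IsClosedImmersion i]
    (j : Z' ⟶ X) [IsOpenImmersion j] (h : ι.ker = i.ker.comap j) :
    ∃ ψ : Z ⟶ Y, ψ ≫ i = ι ≫ j ∧ IsOpenImmersion ψ ∧ ∀ y z', j z' = i y → y ∈ Set.range ψ := by
  have hle : i.ker ≤ (ι ≫ j).ker := by
    rw [← Scheme.IdealSheafData.map_ker, Scheme.IdealSheafData.le_map_iff_comap_le, h]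
  let ψ := IsClosedImmersion.lift i (ι ≫ j) hle
  have hψ : ψ ≫ i = ι ≫ j := IsClosedImmersion.lift_fac _ _ _
  have H : IsPullback ι ψ j i := isPullback_of_isClosedImmersion ι i ψ j hψ.symm h.symm
  refine ⟨ψ, hψ, MorphismProperty.of_isPullback (P := @IsOpenImmersion) H ‹_›, fun y z' hy => ?_⟩
  obtain ⟨p, -, hp⟩ := Scheme.exists_preimage_of_isPullback H z' y hy
  exact ⟨p, hp⟩

theorem smooth_exceptional (i : Y ⟶ X) (hi : Mor2.IsRegularClosedImmersion i)
    (b : X' ⟶ X) (hb : BlowUp.IsBlowUp b i.ker) (g : (BlowUp.exceptional b i.ker).subscheme ⟶ Y)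
    (hg : g ≫ i = (BlowUp.exceptional b i.ker).subschemeι ≫ b) : Smooth g := by
  haveI := hi.1
  let E := BlowUp.exceptional b i.ker
  suffices hloc : ∀ y : E.subscheme, ∃ (Z : Scheme.{u}) (ψ : Z ⟶ E.subscheme),
      IsOpenImmersion ψ ∧ y ∈ Set.range ψ ∧ Smooth (ψ ≫ g) by
    choose Z ψ hψ hy hs using hloc
    refine IsZariskiLocalAtSource.of_iSup_eq_top (P := @Smooth) (fun y => (ψ y).opensRange)
      (top_le_iff.1 fun y _ => Opens.mem_iSup.2 ⟨y, hy y⟩) fun y => ?_
    rw [← Scheme.Hom.isoOpensRange_inv_comp (ψ y), Category.assoc]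
    haveI := hs y
    infer_instance
  intro y
  obtain ⟨U, hU, hzU, rs, hrs, hI⟩ := hi.2 (g y)
  let a : Fin rs.length → Γ(X, U) := rs.get
  have hspan : cI a = i.ker.ideal ⟨U, hU⟩ := by
    rw [hI, cI, Set.range_list_get]
  have hq : CAlgX.IsQuasiRegular a :=
    S5802.result _ _ a (by rw [List.ofFn_get]; exact hrs.toIsWeaklyRegular)
  let q := hU.fromSpec
  have hbU := isBlowUp_of_isPullback (IsPullback.of_hasPullback b q).flip hb
  rw [comap_fromSpec i.ker ⟨U, hU⟩, ← hspan] at hbU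
  obtain ⟨e, he⟩ := exists_iso (isBlowUp_local (cI a)) hbU
  have hyU : b (E.subschemeι y) ∈ Set.range q := by
    rw [hU.range_fromSpec, ← Scheme.Hom.comp_apply, ← hg]
    exact hzU
  obtain ⟨w, hw⟩ : E.subschemeι y ∈ Set.range (pullback.fst b q) := by
    rw [Scheme.Pullback.range_fst]
    exact hyU
  obtain ⟨k, hk⟩ := chart_covers_gens a (e.inv w)
  obtain ⟨v, hv⟩ := hk
  let B := chartAlg a k
  let j : Spec (CommRingCat.of B) ⟶ X' := chart (cI a) ⟨a k, mem_cI a k⟩ ≫ e.hom ≫ pullback.fst b q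
  have hjv : j v = E.subschemeι y := by
    have h1 : e.hom (e.inv w) = w := by rw [← Scheme.Hom.comp_apply, e.inv_hom_id]; rfl
    show pullback.fst b q (e.hom (chart (cI a) ⟨a k, mem_cI a k⟩ v)) = _
    rw [hv, h1, hw]
  have hjb : j ≫ b = Spec.map (CommRingCat.ofHom (algebraMap Γ(X, U) B)) ≫ q := by
    simp only [j, Category.assoc, pullback.condition]
    rw [reassoc_of% he, chart_toBase_assoc]
  let ιZ : Spec (CommRingCat.of (B ⧸ exc a k)) ⟶ Spec (CommRingCat.of B) :=
    Spec.map (CommRingCat.ofHom (Ideal.Quotient.mk (exc a k)))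
  haveI : IsClosedImmersion ιZ := IsClosedImmersion.spec_of_surjective _ Ideal.Quotient.mk_surjective
  have hker : ιZ.ker = E.subschemeι.ker.comap j := by
    rw [Scheme.IdealSheafData.ker_subschemeι, ker_specMk, ← Scheme.IdealSheafData.comap_comp, hjb,
      Scheme.IdealSheafData.comap_comp, comap_fromSpec i.ker ⟨U, hU⟩, ← hspan, comap_centre_specMap]
  obtain ⟨ψ, hψ, hψo, hψr⟩ := openPiece ιZ E.subschemeι j hker
  let ιA : Spec (CommRingCat.of (Γ(X, U) ⧸ cI a)) ⟶ Spec Γ(X, U) :=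
    Spec.map (CommRingCat.ofHom (Ideal.Quotient.mk (cI a)))
  haveI : IsClosedImmersion ιA := IsClosedImmersion.spec_of_surjective _ Ideal.Quotient.mk_surjective
  obtain ⟨ψA, hψA, hψAo, -⟩ := openPiece ιA i q (by
    rw [ker_specMk, comap_fromSpec i.ker ⟨U, hU⟩, ← hspan])
  refine ⟨_, ψ, hψo, hψr y v hjv, ?_⟩
  let φ : CommRingCat.of (Γ(X, U) ⧸ cI a) ⟶ CommRingCat.of (B ⧸ exc a k) :=
    CommRingCat.ofHom (R := Γ(X, U) ⧸ cI a) (S := B ⧸ exc a k) (excHom a k)
  have hsm : φ.hom.Smooth := smooth_excHom (a := a) (k := k) hq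
  have hfac : ψ ≫ g = Spec.map φ ≫ ψA := by
    rw [← cancel_mono i, Category.assoc, hg, reassoc_of% hψ, hjb, Category.assoc, hψA]
    simp only [ιZ, ιA, φ, ← Category.assoc, ← Spec.map_comp]
    rfl
  rw [hfac]
  haveI : Smooth (Spec.map φ) := (HasRingHomProperty.Spec_iff (P := @Smooth)).2 hsm
  infer_instance

end Groth.Agent.RegBlow6
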