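import Groth.Agent.BlowUpLib.Glue
import Groth.Agent.RegConormal.Split
import Groth.Agent.VarGeom.Normal
import Groth.Agent.S0560
import Groth.Agent.S0564
import Groth.Agent.S4991

/-!
# Regularity off the centre from a smooth exceptional divisor
-/

set_option autoImplicit false
set_option linter.style.haveILetI false
set_option backward.isDefEq.respectTransparency false
set_option backward.isDefEq.respectTransparency.types false

universe u

open CategoryTheory CategoryTheory.Limits AlgebraicGeometry TopologicalSpace IsLocalRing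

namespace Groth.Agent.RegBlow6

variable {X X' : Scheme.{u}}

theorem isRegularLocalRing_of_specializes {x z : X} (h : x ⤳ z) [IsRegularLocalRing (X.presheaf.stalk z)] :
    IsRegularLocalRing (X.presheaf.stalk x) := by
  obtain ⟨S, hS⟩ := VarGeom.exists_isLocalization_stalkSpecializes h
  letI := (X.presheaf.stalkSpecializes h).hom.toAlgebra
  haveI := hS
  let p : Ideal (X.presheaf.stalk z) :=
    (maximalIdeal (X.presheaf.stalk x)).comap (algebraMap (X.presheaf.stalk z) (X.presheaf.stalk x))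
  have hle : S ≤ p.primeCompl := fun s hs hsp =>
    (mem_nonunits_iff.1 ((IsLocalRing.mem_maximalIdeal _).1 (Ideal.mem_comap.1 hsp)))
      (IsLocalization.map_units (X.presheaf.stalk x) (⟨s, hs⟩ : S))
  haveI : IsLocalization.AtPrime (X.presheaf.stalk x) p :=
    IsLocalization.of_le (M := S) (S := X.presheaf.stalk x) p.primeCompl hle fun r hr =>
      not_not.1 fun hu => hr (Ideal.mem_comap.2 ((IsLocalRing.mem_maximalIdeal _).2 hu))
  haveI := S0564.result (X.presheaf.stalk z) p
  exact IsRegularLocalRing.of_ringEquiv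
    (IsLocalization.algEquiv p.primeCompl (Localization.AtPrime p) (X.presheaf.stalk x)).toRingEquiv

theorem isRegularLocalRing_of_effCartier [IsLocallyNoetherian X'] {E : X'.IdealSheafData}
    (hE : BlowUp.IsEffCartierIdeal E) (y : E.subscheme) [IsRegularLocalRing (E.subscheme.presheaf.stalk y)] :
    IsRegularLocalRing (X'.presheaf.stalk (E.subschemeι y)) := by
  obtain ⟨W, hW, f, hf, hfW⟩ := hE (E.subschemeι y)
  let φ := (E.subschemeι.stalkMap y).hom
  have hker : RingHom.ker φ = Ideal.span {X'.presheaf.germ W.1 (E.subschemeι y) hW f} := by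
    rw [RegConormal.ker_stalkMap_eq_map E.subschemeι y W hW
      (IsZariskiLocalAtTarget.restrict (P := @IsClosedImmersion) inferInstance W.1),
      Scheme.IdealSheafData.ker_subschemeι_app, hfW, Ideal.map_span, Set.image_singleton]
  letI := TopCat.Presheaf.algebra_section_stalk X'.presheaf (⟨E.subschemeι y, hW⟩ : W.1)
  haveI := W.2.isLocalization_stalk ⟨E.subschemeι y, hW⟩
  have hnzd : X'.presheaf.germ W.1 (E.subschemeι y) hW f ∈ nonZeroDivisors (X'.presheaf.stalk (E.subschemeι y)) :=
    IsLocalization.map_nonZeroDivisors_le (W.2.primeIdealOf ⟨E.subschemeι y, hW⟩).asIdeal.primeCompl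
      (X'.presheaf.stalk (E.subschemeι y)) ⟨f, hf, rfl⟩
  have hmax : X'.presheaf.germ W.1 (E.subschemeι y) hW f ∈ maximalIdeal (X'.presheaf.stalk (E.subschemeι y)) := by
    refine (IsLocalRing.mem_maximalIdeal _).2 fun hu => ?_
    have h1 := hu.map φ
    rw [show φ (X'.presheaf.germ W.1 (E.subschemeι y) hW f) = 0 by
      rw [← RingHom.mem_ker, hker]; exact Ideal.mem_span_singleton_self _] at h1
    exact not_isUnit_zero h1
  haveI : IsRegularLocalRing (X'.presheaf.stalk (E.subschemeι y) ⧸
      Ideal.span {X'.presheaf.germ W.1 (E.subschemeι y) hW f}) :=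
    IsRegularLocalRing.of_ringEquiv ((RingHom.quotientKerEquivOfSurjective (f := φ)
      (E.subschemeι.stalkMap_surjective y)).symm.trans (Ideal.quotEquivOfEq hker))
  exact S0560.result _ _ hmax hnzd

theorem regular_generization [IsLocallyNoetherian X]
    (𝓘 : X.IdealSheafData) (b : X' ⟶ X) (hb : BlowUp.IsBlowUp b 𝓘)
    (g : (BlowUp.exceptional b 𝓘).subscheme ⟶ 𝓘.subscheme)
    (hg : g ≫ 𝓘.subschemeι = (BlowUp.exceptional b 𝓘).subschemeι ≫ b)
    [Smooth g] (y : ↥𝓘.subscheme) [IsRegularLocalRing (𝓘.subscheme.presheaf.stalk y)] (x₁ : ↥X)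
    (hgen : x₁ ⤳ 𝓘.subschemeι y) (hx₁ : x₁ ∉ 𝓘.support) : IsRegularLocalRing (X.presheaf.stalk x₁) := by
  haveI : IsProper b := BlowUpLib.isProper_of_isBlowUp 𝓘 hb fun U => by
    haveI : IsNoetherianRing Γ(X, U.1) := IsLocallyNoetherian.component_noetherian U
    exact IsNoetherian.noetherian _
  haveI := LocallyOfFiniteType.isLocallyNoetherian b
  haveI : IsLocallyNoetherian 𝓘.subscheme := LocallyOfFiniteType.isLocallyNoetherian 𝓘.subschemeι
  have hx₁' : x₁ ∈ ModPair.interior 𝓘 := hx₁
  haveI := BlowUpLib.isIso_restrict hb (ModPair.interior 𝓘) le_rfl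
  obtain ⟨w, hw⟩ := (b ∣_ ModPair.interior 𝓘).homeomorph.surjective ⟨x₁, hx₁'⟩
  let x₁' : X' := (b ⁻¹ᵁ ModPair.interior 𝓘).ι w
  have hbx : b x₁' = x₁ := by
    have h1 : ((b ∣_ ModPair.interior 𝓘) w).1 = x₁ := congrArg Subtype.val hw
    refine Eq.trans ?_ h1
    exact (congrArg (fun f => f w) (morphismRestrict_ι b (ModPair.interior 𝓘))).symm
  obtain ⟨x', hgen', hx'⟩ := b.isClosedMap.specializingMap (hbx.symm ▸ hgen)
  have hx'E : x' ∈ Set.range (BlowUp.exceptional b 𝓘).subschemeι := by
    rw [Scheme.IdealSheafData.range_subschemeι, BlowUp.exceptional, Scheme.IdealSheafData.support_comap]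
    show b x' ∈ (𝓘.support : Set X)
    rw [hx', ← Scheme.IdealSheafData.range_subschemeι]
    exact ⟨y, rfl⟩
  obtain ⟨y', rfl⟩ := hx'E
  have hgy : g y' = y := 𝓘.subschemeι.isClosedEmbedding.injective (by
    rw [← Scheme.Hom.comp_apply, hg, Scheme.Hom.comp_apply, hx'])
  haveI : IsRegularLocalRing (𝓘.subscheme.presheaf.stalk (g y')) := hgy.symm ▸ inferInstance
  haveI : IsRegularLocalRing ((BlowUp.exceptional b 𝓘).subscheme.presheaf.stalk y') :=
    (S4991.result g y' ⟨⊤, trivial, inferInstance⟩).2 inferInstance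
  haveI := isRegularLocalRing_of_effCartier hb.1 y'
  haveI := isRegularLocalRing_of_specializes hgen'
  haveI : IsOpenImmersion ((b ⁻¹ᵁ ModPair.interior 𝓘).ι ≫ b) := by
    rw [← morphismRestrict_ι]; infer_instance
  haveI : IsIso (b.stalkMap x₁') := by
    have h1 : IsIso (((b ⁻¹ᵁ ModPair.interior 𝓘).ι ≫ b).stalkMap w) := inferInstance
    rw [Scheme.Hom.stalkMap_comp] at h1
    exact IsIso.of_isIso_comp_right (b.stalkMap x₁') ((b ⁻¹ᵁ ModPair.interior 𝓘).ι.stalkMap w)
  rw [← hbx]
  exact IsRegularLocalRing.of_ringEquiv (asIso (b.stalkMap x₁')).commRingCatIsoToRingEquiv.symm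

end Groth.Agent.RegBlow6
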